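import Groth.Agent.Lib.CatBasics.Basic
import Groth.Agent.Lib.Depth.CM
import Groth.Agent.Lib.Depth.Local
import Groth.Agent.Lib.CMFree.FiniteFlat
import Mathlib.RingTheory.RegularLocalRing.Polynomial

/-!
# Cohen–Macaulay and regular rings are (universally) catenary
-/

set_option autoImplicit false
set_option linter.style.haveILetI false
universe u

open IsLocalRing

namespace GrothLib.CatCM

/-- Heights going up by one along covering relations gives catenarity. -/
theorem isCatenary_of_height_covBy {S : Type u} [CommRing S] [IsNoetherianRing S]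
    (h : ∀ p q : PrimeSpectrum S, p ⋖ q → q.asIdeal.height = p.asIdeal.height + 1) : CAlg.IsCatenary S := by
  have hfin : ∀ q : PrimeSpectrum S, ∃ n : ℕ, q.asIdeal.height = n := fun q => by
    obtain ⟨n, hn⟩ := ENat.ne_top_iff_exists.1 (Ideal.height_ne_top (I := q.asIdeal) q.2.ne_top)
    exact ⟨n, hn.symm⟩
  have key : ∀ s : LTSeries (PrimeSpectrum S), (∀ i : Fin s.length, s (Fin.castSucc i) ⋖ s (Fin.succ i)) →
      s.last.asIdeal.height = s.head.asIdeal.height + s.length := by
    intro s hs
    have : ∀ i : Fin (s.length + 1), (s i).asIdeal.height = s.head.asIdeal.height + (i : ℕ) := by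
      intro i
      induction i using Fin.induction with
      | zero => simp [RelSeries.head]
      | succ i ih => rw [h _ _ (hs i), ih, Fin.val_succ, Fin.val_castSucc, Nat.cast_succ, add_assoc]
    exact this (Fin.last _)
  refine ⟨fun p q _ => ?_, fun s t h0 h1 hs ht => ?_⟩
  · obtain ⟨n, hn⟩ := hfin q
    refine ⟨n, fun s _ hl => ?_⟩
    have := Order.length_le_height_last (p := s)
    rw [← PrimeSpectrum.height_eq_orderHeight, hl, hn] at this
    exact_mod_cast this
  · obtain ⟨a, ha⟩ := hfin s.head
    have e1 := key s hs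
    rw [h1, key t ht, ← h0, ha] at e1
    have e2 : a + t.length = a + s.length := by exact_mod_cast e1
    omega

/-- Heights go up by one along covering relations in a Cohen–Macaulay ring. -/
theorem height_covBy {S : Type u} [CommRing S] [LocCoh.IsCohenMacaulayRing S] {p q : PrimeSpectrum S}
    (hpq : p ⋖ q) : q.asIdeal.height = p.asIdeal.height + 1 := by
  let R := Localization.AtPrime q.asIdeal
  haveI : LocCoh.IsCohenMacaulayLocalRing R :=
    LocCoh.IsCohenMacaulayRing.isCohenMacaulayLocalRing_localization q.asIdeal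
  have hdisj : Disjoint (q.asIdeal.primeCompl : Set S) p.asIdeal :=
    Set.disjoint_left.mpr fun x hx hxp => hx (hpq.lt.le hxp)
  let P := p.asIdeal.map (algebraMap S R)
  haveI : P.IsPrime := IsLocalization.isPrime_of_isPrime_disjoint q.asIdeal.primeCompl _ _ p.2 hdisj
  have hPc : P.comap (algebraMap S R) = p.asIdeal :=
    IsLocalization.comap_map_of_isPrime_disjoint q.asIdeal.primeCompl _ p.2 hdisj
  have hPh : P.height = p.asIdeal.height := by
    rw [← IsLocalization.height_under q.asIdeal.primeCompl P]
    exact congrArg Ideal.height hPc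
  have hquot : ringKrullDim (R ⧸ P) ≤ ((1 : ℕ) : WithBot ℕ∞) := by
    let f : PrimeSpectrum (R ⧸ P) → PrimeSpectrum S :=
      PrimeSpectrum.comap ((Ideal.Quotient.mk P).comp (algebraMap S R))
    have hle : ∀ a b, f a ≤ f b → a ≤ b := fun a b hab => by
      show a.asIdeal ≤ b.asIdeal
      refine (Ideal.comap_le_comap_iff_of_surjective _ Ideal.Quotient.mk_surjective _ _).1 ?_
      rw [← IsLocalization.map_under q.asIdeal.primeCompl R (a.asIdeal.comap (Ideal.Quotient.mk P)),
        ← IsLocalization.map_under q.asIdeal.primeCompl R (b.asIdeal.comap (Ideal.Quotient.mk P))]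
      refine Ideal.map_mono ?_
      show (a.asIdeal.comap _).comap (algebraMap S R) ≤ (b.asIdeal.comap _).comap (algebraMap S R)
      rw [Ideal.comap_comap, Ideal.comap_comap]
      exact hab
    have hmono : StrictMono f := fun a b hab =>
      lt_of_le_not_ge (Ideal.comap_mono hab.le) fun hh => hab.not_ge (hle _ _ hh)
    refine le_of_le_of_eq (Order.krullDim_le_one_iff.2 fun a => ?_) Nat.cast_one.symm
    by_contra hcon
    rw [not_or, not_isMin_iff, not_isMax_iff] at hcon
    obtain ⟨⟨b, hb⟩, c, hc⟩ := hcon
    have h1 : p ≤ f b := fun x hx => by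
      show Ideal.Quotient.mk P (algebraMap S R x) ∈ b.asIdeal
      rw [Ideal.Quotient.eq_zero_iff_mem.2 (Ideal.mem_map_of_mem _ hx)]
      exact zero_mem _
    have h2 : f c ≤ q := fun x (hx : Ideal.Quotient.mk P (algebraMap S R x) ∈ c.asIdeal) => by
      by_contra hxq
      exact c.2.ne_top (Ideal.eq_top_of_isUnit_mem _ hx
        ((IsLocalization.map_units R (⟨x, hxq⟩ : q.asIdeal.primeCompl)).map _))
    exact hpq.2 (h1.trans_lt (hmono hb)) ((hmono hc).trans_le h2)
  have hP : P ≠ ⊤ := Ideal.IsPrime.ne_top inferInstance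
  have hM : LocCoh.IsCohenMacaulayModule R R := LocCoh.IsCohenMacaulayLocalRing.supportDim_eq_depth
  obtain ⟨t, ht⟩ := ENat.ne_top_iff_exists.1 (GrothLib.Depth.idealDepth_ne_top (M := R) hP)
  have hdim := GrothLib.Depth.supportDim_eq_add_idealDepth t hP R hM ht.symm
  have hann : Module.supportDim R (R ⧸ (P • (⊤ : Submodule R R))) = ringKrullDim (R ⧸ P) := by
    rw [smul_eq_mul, Ideal.mul_top]
    rw [Module.supportDim_eq_ringKrullDim_quotient_annihilator, Ideal.annihilator_quotient]
  rw [Module.supportDim_self_eq_ringKrullDim, IsLocalization.AtPrime.ringKrullDim_eq_height q.asIdeal R,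
    hann] at hdim
  have hgrade : (t : ℕ∞) ≤ P.height := by
    haveI : IsNoetherianRing (Localization.AtPrime P) :=
      IsLocalization.isNoetherianRing P.primeCompl _ inferInstance
    have h1 := GrothLib.Depth.idealDepth_le_localization (M := R) P P le_rfl
    rw [← ht, GrothLib.Depth.depth_localization_self] at h1
    have h2 := (WithBot.coe_le_coe.2 h1).trans (GrothLib.CMFree.depth_le_ringKrullDim (Localization.AtPrime P))
    rw [IsLocalization.AtPrime.ringKrullDim_eq_height P] at h2
    exact WithBot.coe_le_coe.1 h2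
  rw [hPh] at hgrade
  have hup : q.asIdeal.height ≤ p.asIdeal.height + 1 := by
    refine WithBot.coe_le_coe.1 ?_
    rw [hdim]
    refine (add_le_add hquot (WithBot.coe_le_coe.2 hgrade : ((t : ℕ∞) : WithBot ℕ∞) ≤ _)).trans ?_
    rw [add_comm p.asIdeal.height, WithBot.coe_add]
    rfl
  exact le_antisymm hup (Order.add_one_le_of_lt (Ideal.height_strict_mono_of_isPrime (show p.asIdeal < q.asIdeal from hpq.lt)))

/-- A Cohen–Macaulay ring is catenary. -/
theorem isCatenary_of_isCohenMacaulayRing (S : Type u) [CommRing S] [LocCoh.IsCohenMacaulayRing S] :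
    CAlg.IsCatenary S :=
  isCatenary_of_height_covBy fun _ _ h => height_covBy h

/-- A regular ring is Cohen–Macaulay. -/
theorem isCohenMacaulayRing_of_isRegularRing (S : Type u) [CommRing S] [IsRegularRing S] :
    LocCoh.IsCohenMacaulayRing S :=
  GrothLib.CMFree.isCohenMacaulayRing_of_finite_flat S S

/-- A regular ring is universally catenary. -/
theorem isUniversallyCatenary_of_isRegularRing (A : Type u) [CommRing A] [IsRegularRing A] :
    CAlg.IsUniversallyCatenary A := by
  refine ⟨inferInstance, fun S _ _ hS => ?_⟩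
  obtain ⟨n, f, hf⟩ := Algebra.FiniteType.iff_quotient_mvPolynomial''.1 hS
  haveI := isCohenMacaulayRing_of_isRegularRing (MvPolynomial (Fin n) A)
  exact GrothLib.CatBasics.isCatenary_of_surjective f.toRingHom hf (isCatenary_of_isCohenMacaulayRing _)

end GrothLib.CatCM
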